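import Groth.Agent.Lib.UnipSplit14.Split
import Groth.Agent.Lib.HopfNQ14.Basic
import Groth.Agent.Lib.HopfAG.UnipPrim
import Groth.Prelude.Def_SGA3b

/-!
# An extension of a diagonalizable group by a unipotent group splits over an algebraically closed field
-/

universe u

set_option linter.style.haveILetI false

open TensorProduct

namespace GrothLib.UnipSplit14

variable {k : Type u} [Field k] {A C : Type u} [CommRing A] [HopfAlgebra k A] [CommRing C] [HopfAlgebra k C]
  {M : Type u} [CommGroup M]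

theorem exists_frame (hC : SGA3b.IsDiag k C) : ∃ (M : Type u) (_ : CommGroup M), Nonempty (Frame k C M) := by
  obtain ⟨M, _, ⟨e⟩⟩ := hC
  exact ⟨M, inferInstance, ⟨
    { β := (e.symm : MonoidAlgebra k M →* C).comp (MonoidAlgebra.of k M)
      basis := (Finsupp.basisSingleOne (R := k) (ι := M)).map
        (((MonoidAlgebra.coeffLinearEquiv k).symm).trans
          ((e.symm : MonoidAlgebra k M ≃ₐ[k] C).toLinearEquiv))
      basis_eq := fun m => by simp
      isGroupLike := fun m => (MonoidAlgebra.isGroupLikeElem_single_one m).map e.symm }⟩⟩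

theorem Frame.isDiagonalizable (F : Frame k C M) : HopfRep.IsDiagonalizable k C := by
  rw [HopfRep.IsDiagonalizable, eq_top_iff, ← F.basis.span_eq, Submodule.span_le]
  rintro _ ⟨m, rfl⟩
  exact Submodule.subset_span (F.basis_eq m ▸ F.isGroupLike m)

theorem Frame.right_coord (F : Frame k C M) (m : M) (x : C) :
    right (F.basis.coord m) x = F.basis.coord m x • F.β m := by
  have : right (F.basis.coord m) = LinearMap.toSpanSingleton k C (F.β m) ∘ₗ F.basis.coord m := by
    refine F.basis.ext fun m' => ?_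
    simp only [right, LinearMap.comp_apply, LinearMap.toSpanSingleton_apply, LinearEquiv.coe_coe]
    rw [show F.basis m' = F.β m' from F.basis_eq m', (F.isGroupLike m').comul_eq_tmul_self, LinearMap.lTensor_tmul,
      TensorProduct.rid_tmul]
    rw [← F.basis_eq m', ← F.basis_eq m]
    by_cases h : m' = m
    · subst h; simp
    · simp [h]
  exact LinearMap.congr_fun this x

theorem Frame.exists_eq (F : Frame k C M) {g : C} (hg : IsGroupLikeElem k g) : ∃ m, F.β m = g := by
  obtain ⟨m, hm⟩ : ∃ m, F.basis.coord m g ≠ 0 := by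
    by_contra! hall
    exact hg.ne_zero (F.basis.ext_elem fun m => by rw [map_zero]; exact hall m)
  refine ⟨m, ?_⟩
  have h := F.right_coord m g
  rw [right, LinearMap.comp_apply, LinearMap.comp_apply, hg.comul_eq_tmul_self, LinearMap.lTensor_tmul,
    LinearEquiv.coe_coe, TensorProduct.rid_tmul] at h
  exact (smul_right_injective C hm h).symm

theorem groupLike_eq_one_of_mem_soc {U : Type u} [CommRing U] [HopfAlgebra k U] {g : U} (hg : IsGroupLikeElem k g) :
    ∀ n, g ∈ GrothLib.Unip.soc k U U n → g = 1 := by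
  intro n
  induction n with
  | zero => intro h; exact absurd ((Submodule.mem_bot k).1 h) hg.ne_zero
  | succ n ih =>
    intro h
    by_contra hne
    obtain ⟨t, ht⟩ := GrothLib.Unip.mem_next.1 h
    have ht' : (GrothLib.Unip.soc k U U n).subtype.rTensor U t = g ⊗ₜ[k] (g - 1) := by
      refine ht.trans ?_
      change Coalgebra.comul (R := k) g - g ⊗ₜ[k] (1 : U) = _
      rw [hg.comul_eq_tmul_self, TensorProduct.tmul_sub]
    obtain ⟨f, hf⟩ : ∃ f : Module.Dual k U, f (g - 1) ≠ 0 := by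
      by_contra! hall
      exact sub_ne_zero.2 hne ((Module.forall_dual_apply_eq_zero_iff k _).mp hall)
    have hmem : TensorProduct.rid k U (f.lTensor U (g ⊗ₜ[k] (g - 1))) ∈ GrothLib.Unip.soc k U U n := by
      rw [← ht']
      clear ht ht'
      induction t using TensorProduct.induction_on with
      | zero => simp
      | tmul a b => simp [Submodule.smul_mem _ _ a.2]
      | add a b ha hb => simp only [map_add]; exact add_mem ha hb
    rw [LinearMap.lTensor_tmul, TensorProduct.rid_tmul] at hmem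
    refine hne (ih ?_)
    have := (GrothLib.Unip.soc k U U n).smul_mem (f (g - 1))⁻¹ hmem
    rwa [smul_smul, inv_mul_cancel₀ hf, one_smul] at this

theorem groupLike_mem_range [Algebra.FiniteType k A] [Algebra.FiniteType k C] (ψ : C →ₐc[k] A)
    (hψ : Function.Injective ψ) [(GrothLib.Hopf.kerIdeal k ψ).IsHopfIdeal k]
    (hU : HopfRep.IsUnipotent k (A ⧸ GrothLib.Hopf.kerIdeal k ψ)) {g : A} (hg : IsGroupLikeElem k g) :
    ∃ c : C, IsGroupLikeElem k c ∧ ψ c = g := by
  let π : A →ₐc[k] A ⧸ GrothLib.Hopf.kerIdeal k ψ := Bialgebra.Quotient.mkBialgHom _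
  obtain ⟨n, hn⟩ := GrothLib.Unip.exists_mem_soc hU (π g)
  have h1 : π g = 1 := groupLike_eq_one_of_mem_soc (hg.map π) n hn
  obtain ⟨c, rfl⟩ := GrothLib.Unip.mem_range_of_map_comul_eq ψ hψ (a := g) (by
    rw [hg.comul_eq_tmul_self, LinearMap.lTensor_tmul]
    exact congrArg (g ⊗ₜ[k] ·) h1)
  refine ⟨c, ⟨?_, ?_⟩, rfl⟩
  · rw [← CoalgHomClass.counit_comp_apply ψ c, hg.counit_eq_one]
  · refine TensorProduct.map_injective_of_flat_flat (ψ : C →ₐ[k] A).toLinearMap (ψ : C →ₐ[k] A).toLinearMap hψ hψ ?_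
    exact (CoalgHomClass.map_comp_comul_apply ψ c).trans hg.comul_eq_tmul_self

/-- Every element which is an eigenvector on both sides modulo the group algebra can be corrected to a
skew-primitive element. -/
theorem exists_skew_primitive (F : Frame k C M) (ψ : C →ₐc[k] A) (hψ : Function.Injective ψ) {x : A} (mg mh : M)
    (hx : x ∉ LinearMap.range (ψ : C →ₐ[k] A).toLinearMap)
    (h1 : (LinearMap.range (ψ : C →ₐ[k] A).toLinearMap).mkQ.rTensor A (Coalgebra.comul (R := k) x) =
      (LinearMap.range (ψ : C →ₐ[k] A).toLinearMap).mkQ x ⊗ₜ[k] ψ (F.β mg))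
    (h2 : (LinearMap.range (ψ : C →ₐ[k] A).toLinearMap).mkQ.lTensor A (Coalgebra.comul (R := k) x) =
      ψ (F.β mh) ⊗ₜ[k] (LinearMap.range (ψ : C →ₐ[k] A).toLinearMap).mkQ x) :
    ∃ z : A, z ∉ LinearMap.range (ψ : C →ₐ[k] A).toLinearMap ∧
      Coalgebra.comul (R := k) z = z ⊗ₜ[k] ψ (F.β (mg * mh⁻¹)) + 1 ⊗ₜ[k] z := by
  set A' := LinearMap.range (ψ : C →ₐ[k] A).toLinearMap
  have hψA : ∀ c, ψ c ∈ A' := fun c => ⟨c, rfl⟩
  obtain ⟨P, hP⟩ := (ψ : C →ₐ[k] A).toLinearMap.exists_leftInverse_of_injective (LinearMap.ker_eq_bot.mpr hψ)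
  have hP' : ∀ c, P (ψ c) = c := fun c => LinearMap.congr_fun hP c
  let g := ψ (F.β mg)
  let h := ψ (F.β mh)
  let w := Coalgebra.comul (R := k) x - x ⊗ₜ[k] g - h ⊗ₜ[k] x
  have hw1 : A'.mkQ.rTensor A w = 0 := by
    have e0 : A'.mkQ h = 0 := (Submodule.Quotient.mk_eq_zero A').2 (hψA _)
    simp only [w, map_sub, h1, LinearMap.rTensor_tmul, e0, TensorProduct.zero_tmul, sub_zero]
    exact sub_self _
  have hw2 : A'.mkQ.lTensor A w = 0 := by
    have e0 : A'.mkQ g = 0 := (Submodule.Quotient.mk_eq_zero A').2 (hψA _)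
    simp only [w, map_sub, h2, LinearMap.lTensor_tmul, e0, TensorProduct.tmul_zero, sub_zero]
    exact sub_self _
  let Q : A →ₗ[k] A := (ψ : C →ₐ[k] A).toLinearMap ∘ₗ P
  let L : (A ⧸ A') →ₗ[k] A := A'.liftQ (LinearMap.id - Q) fun u hu => by
    obtain ⟨c, rfl⟩ := hu
    change ψ c - ψ (P (ψ c)) = 0
    rw [hP', sub_self]
  have hL : LinearMap.id - Q = L ∘ₗ A'.mkQ := (A'.liftQ_mkQ _ _).symm
  have hw3 : Q.rTensor A w = w := by
    have := LinearMap.congr_fun (congrArg (fun f : A →ₗ[k] A => f.rTensor A) hL) w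
    rw [LinearMap.rTensor_comp, LinearMap.comp_apply, hw1, map_zero, LinearMap.rTensor_sub, LinearMap.sub_apply,
      LinearMap.rTensor_id, LinearMap.id_apply, sub_eq_zero] at this
    exact this.symm
  have hw4 : Q.lTensor A w = w := by
    have := LinearMap.congr_fun (congrArg (fun f : A →ₗ[k] A => f.lTensor A) hL) w
    rw [LinearMap.lTensor_comp, LinearMap.comp_apply, hw2, map_zero, LinearMap.lTensor_sub, LinearMap.sub_apply,
      LinearMap.lTensor_id, LinearMap.id_apply, sub_eq_zero] at this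
    exact this.symm
  let φ : Module.Dual k A := F.basis.coord mg ∘ₗ P
  have hR : ∀ c, right φ (ψ c) = F.basis.coord mg c • g := by
    intro c
    have e : ∀ t : C ⊗[k] C, TensorProduct.rid k A (φ.lTensor A
        (TensorProduct.map (ψ : C →ₗ[k] A) (ψ : C →ₗ[k] A) t)) =
        ψ (TensorProduct.rid k C ((F.basis.coord mg).lTensor C t)) := fun t => by
      induction t using TensorProduct.induction_on with
      | zero => simp
      | tmul p q => simp [φ, show ∀ c, P (ψ c) = c from hP']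
      | add p q hp hq => simp only [map_add, hp, hq]
    change TensorProduct.rid k A (φ.lTensor A (Coalgebra.comul (R := k) (ψ c))) = _
    rw [← CoalgHomClass.map_comp_comul_apply ψ c]
    refine (e _).trans ?_
    change ψ (right (F.basis.coord mg) c) = _
    rw [F.right_coord, map_smul]
  have hRg : right φ g = g := by
    rw [hR, ← F.basis_eq]
    simp
  have hφg : φ g = 1 := by
    simp only [φ, g, LinearMap.comp_apply, hP']
    rw [← F.basis_eq]
    simp
  obtain ⟨b, hb1, hb2⟩ : ∃ b : C, (right φ).lTensor A w = ψ b ⊗ₜ[k] g ∧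
      TensorProduct.rid k A (φ.lTensor A w) = ψ b := by
    have key : ∀ t : A ⊗[k] A, ∃ b : C, (right φ).lTensor A (Q.rTensor A (Q.lTensor A t)) = ψ b ⊗ₜ[k] g ∧
        TensorProduct.rid k A (φ.lTensor A (Q.rTensor A (Q.lTensor A t))) = ψ b := fun t => by
      induction t using TensorProduct.induction_on with
      | zero => exact ⟨0, by simp⟩
      | tmul p q =>
        refine ⟨F.basis.coord mg (P q) • P p, ?_, ?_⟩
        · simp only [Q, LinearMap.lTensor_tmul, LinearMap.rTensor_tmul, LinearMap.comp_apply,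
            AlgHom.toLinearMap_apply]
          change ψ (P p) ⊗ₜ[k] right φ (ψ (P q)) = _
          rw [hR, map_smul, TensorProduct.smul_tmul]
        · simp only [Q, LinearMap.lTensor_tmul, LinearMap.rTensor_tmul, LinearMap.comp_apply,
            AlgHom.toLinearMap_apply, TensorProduct.rid_tmul]
          change φ (ψ (P q)) • ψ (P p) = _
          rw [map_smul]
          simp only [φ, LinearMap.comp_apply, hP']
      | add p q hp hq =>
        obtain ⟨bp, hp1, hp2⟩ := hp
        obtain ⟨bq, hq1, hq2⟩ := hq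
        exact ⟨bp + bq, by simp only [map_add, TensorProduct.add_tmul, hp1, hq1], by simp only [map_add, hp2, hq2]⟩
    obtain ⟨b, hb⟩ := key w
    rw [hw4, hw3] at hb
    exact ⟨b, hb⟩
  let y := right φ x - φ x • h
  have hx0 : Coalgebra.comul (R := k) x = x ⊗ₜ[k] g + h ⊗ₜ[k] x + w := by simp only [w]; abel
  have hy0 : right φ x = x + φ x • h + ψ b := by
    change TensorProduct.rid k A (φ.lTensor A (Coalgebra.comul (R := k) x)) = _
    rw [hx0, map_add, map_add, map_add, map_add, hb2, LinearMap.lTensor_tmul, LinearMap.lTensor_tmul,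
      TensorProduct.rid_tmul, TensorProduct.rid_tmul, hφg, one_smul]
  have hy : Coalgebra.comul (R := k) y = y ⊗ₜ[k] g + h ⊗ₜ[k] y := by
    have hgh : Coalgebra.comul (R := k) h = h ⊗ₜ[k] h := ((F.isGroupLike mh).map ψ).comul_eq_tmul_self
    simp only [y, map_sub, map_smul, comul_right, hgh, hx0, map_add, LinearMap.lTensor_tmul, hRg, hb1]
    rw [hy0]
    simp only [TensorProduct.add_tmul, TensorProduct.sub_tmul, TensorProduct.tmul_sub, TensorProduct.tmul_add,
      TensorProduct.tmul_smul, ← TensorProduct.smul_tmul']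
    abel
  have hyA : y ∉ A' := fun hh => hx (by
    have e : x = y - ψ b := by simp only [y, hy0]; abel
    rw [e]
    exact sub_mem hh (hψA b))
  have hhi : h * ψ (F.β mh⁻¹) = 1 := by
    simp only [h]
    rw [← map_mul, ← map_mul, mul_inv_cancel, map_one, map_one]
  refine ⟨y * ψ (F.β mh⁻¹), fun hh => hyA ?_, ?_⟩
  · obtain ⟨c, hc⟩ := hh
    refine ⟨c * F.β mh, ?_⟩
    change ψ (c * F.β mh) = y
    rw [map_mul, show ψ c = y * ψ (F.β mh⁻¹) from hc, mul_assoc, ← map_mul ψ, ← map_mul F.β, inv_mul_cancel, map_one,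
      map_one, mul_one]
  · rw [Bialgebra.comul_mul, hy, ((F.isGroupLike mh⁻¹).map ψ).comul_eq_tmul_self, add_mul,
      Algebra.TensorProduct.tmul_mul_tmul, Algebra.TensorProduct.tmul_mul_tmul, hhi, map_mul F.β, map_mul ψ]

theorem exists_retraction [IsAlgClosed k] [Algebra.FiniteType k A] (hC : SGA3b.IsDiag k C) (ψ : C →ₐc[k] A)
    (hψ : Function.Injective ψ) (J : Ideal A) [J.IsHopfIdeal k]
    (hJ : J = Ideal.map (ψ : C →+* A) (RingHom.ker (Bialgebra.counitAlgHom k C)))
    (hU : HopfRep.IsUnipotent k (A ⧸ J)) :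
    ∃ r : A →ₐc[k] C, r.comp ψ = BialgHom.id k C := by
  classical
  obtain ⟨M, _, ⟨F⟩⟩ := exists_frame hC
  haveI := GrothLib.TrigStruct.finiteType_of_diagonalizable ψ hψ F.isDiagonalizable
  have hT := GrothLib.TrigStruct.isTrigonalizable_of_extension ψ J hψ hJ F.isDiagonalizable hU
  haveI : IsNoetherianRing A := Algebra.FiniteType.isNoetherianRing k A
  let S : Set (Ideal A) := {I | I.IsHopfIdeal k ∧ ∀ b, ψ b ∈ I → b = 0}
  have hne : S.Nonempty := ⟨⊥,
    { counit_eq_zero := fun x hx => by rw [(show x = 0 from hx), map_zero]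
      map_mkQ_comul_eq_zero := fun x hx => by rw [(show x = 0 from hx), map_zero, map_zero]
      antipode_mem := fun x hx => by rw [(show x = 0 from hx), map_zero]; exact zero_mem _ },
    fun b hb => hψ ((show ψ b = 0 from hb).trans (map_zero ψ).symm)⟩
  obtain ⟨I, ⟨hI, hinj⟩, hmax⟩ := set_has_maximal_iff_noetherian.mpr inferInstance S hne
  haveI := hI
  let ψ₁ : C →ₐc[k] A ⧸ I := (Bialgebra.Quotient.mkBialgHom I).comp ψ
  have hψ₁ : Function.Injective ψ₁ := fun a b hab => by
    refine sub_eq_zero.1 (hinj _ ?_)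
    rw [map_sub]
    exact Ideal.Quotient.eq.1 hab
  by_cases hsurj : Function.Surjective ψ₁
  · let e := BialgEquiv.ofBijective ψ₁ ⟨hψ₁, hsurj⟩
    exact ⟨(e.symm : A ⧸ I →ₐc[k] C).comp (Bialgebra.Quotient.mkBialgHom I),
      DFunLike.ext _ _ fun c => e.symm_apply_apply c⟩
  exfalso
  haveI : Algebra.FiniteType k (A ⧸ I) :=
    Algebra.FiniteType.of_surjective (Ideal.Quotient.mkₐ k I) (Ideal.Quotient.mkₐ_surjective k I)
  let J₁ := GrothLib.Hopf.kerIdeal k ψ₁
  haveI : J₁.IsHopfIdeal k := GrothLib.Hopf.FiniteRank.isHopfIdeal_kerIdeal ψ₁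
  let q : A →ₐc[k] (A ⧸ I) ⧸ J₁ :=
    (Bialgebra.Quotient.mkBialgHom J₁).comp (Bialgebra.Quotient.mkBialgHom I)
  have hq : ∀ a ∈ J, q a = 0 := by
    intro a ha
    have : J ≤ RingHom.ker (q : A →ₐ[k] (A ⧸ I) ⧸ J₁) := by
      rw [hJ]
      refine Ideal.map_le_iff_le_comap.2 fun c hc => Ideal.Quotient.eq_zero_iff_mem.2 ?_
      exact Ideal.mem_map_of_mem (ψ₁ : C →+* A ⧸ I) hc
    exact this ha
  let Φ : A ⧸ J →ₐc[k] (A ⧸ I) ⧸ J₁ :=
    BialgHom.ofAlgHom (Ideal.Quotient.liftₐ J (q : A →ₐ[k] (A ⧸ I) ⧸ J₁) hq)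
      (Ideal.Quotient.algHom_ext k (AlgHom.ext fun y => CoalgHomClass.counit_comp_apply q y))
      (Ideal.Quotient.algHom_ext k (AlgHom.ext fun y => by
        refine Eq.trans ?_ (CoalgHomClass.map_comp_comul_apply q y)
        change Algebra.TensorProduct.map _ _ (Algebra.TensorProduct.map (Ideal.Quotient.mkₐ k J)
          (Ideal.Quotient.mkₐ k J) (Coalgebra.comul (R := k) y)) = _
        generalize Coalgebra.comul (R := k) y = t
        induction t using TensorProduct.induction_on with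
        | zero => simp
        | tmul a b => rfl
        | add a b ha hb => simp only [map_add, ha, hb]))
  have hU₁ : HopfRep.IsUnipotent k ((A ⧸ I) ⧸ J₁) := GrothLib.Unip.isUnipotent_of_surjective' Φ (fun y => by
    obtain ⟨y, rfl⟩ := Ideal.Quotient.mk_surjective y
    obtain ⟨y, rfl⟩ := Ideal.Quotient.mk_surjective y
    exact ⟨Ideal.Quotient.mk J y, rfl⟩) hU
  have hT₁ : HopfRep.IsTrigonalizable k (A ⧸ I) :=
    GrothLib.Trig.isTrigonalizable_of_surjective (Bialgebra.Quotient.mkBialgHom I) Ideal.Quotient.mk_surjective hT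
  set A' := LinearMap.range (ψ₁ : C →ₐ[k] A ⧸ I).toLinearMap
  have hA : HopfRep.IsSubcomod (k := k) (A := A ⧸ I) A' := by
    rintro _ ⟨c, rfl⟩
    change Coalgebra.comul (R := k) (ψ₁ c) ∈ _
    rw [← CoalgHomClass.map_comp_comul_apply ψ₁ c]
    induction Coalgebra.comul (R := k) c using TensorProduct.induction_on with
    | zero => simp
    | tmul p q => exact ⟨⟨ψ₁ p, p, rfl⟩ ⊗ₜ ψ₁ q, rfl⟩
    | add p q hp hq => rw [map_add]; exact add_mem hp hq
  have hS : ∀ u ∈ A', HopfAlgebraStruct.antipode k u ∈ A' := by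
    rintro _ ⟨c, rfl⟩
    change HopfAlgebraStruct.antipode k (ψ₁ c) ∈ A'
    rw [GrothLib.Hopf.bialgHom_antipode]
    exact ⟨_, rfl⟩
  obtain ⟨a, ha⟩ : ∃ a, a ∉ A' := by
    by_contra! hall
    exact hsurj hall
  obtain ⟨x, hx, g, h, hg, hh, h1, h2⟩ := exists_skew hT₁ hA hS ha
  obtain ⟨cg, hcg, rfl⟩ := groupLike_mem_range ψ₁ hψ₁ hU₁ hg
  obtain ⟨ch, hch, rfl⟩ := groupLike_mem_range ψ₁ hψ₁ hU₁ hh
  obtain ⟨mg, rfl⟩ := F.exists_eq hcg
  obtain ⟨mh, rfl⟩ := F.exists_eq hch
  obtain ⟨z, hzA, hz⟩ := exists_skew_primitive F ψ₁ hψ₁ mg mh hx h1 h2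
  obtain ⟨c, hc⟩ := exists_shift F ψ₁ hψ₁ z _ hz
  have hG := (F.isGroupLike (mg * mh⁻¹)).map ψ₁
  set z' := z - c • (ψ₁ (F.β (mg * mh⁻¹)) - 1)
  haveI := isHopfIdeal_span_skew hG (skew_sub hG hz c)
  let I' : Ideal A := (Ideal.span {z'}).comap (Bialgebra.Quotient.mkBialgHom (R := k) I : A →ₐ[k] A ⧸ I)
  refine hmax I' ⟨GrothLib.HopfNQ14.isHopfIdeal_comap _ _, fun b hb => hc b hb⟩ (lt_of_le_of_ne (fun y hy => ?_) ?_)
  · change Ideal.Quotient.mk I y ∈ Ideal.span {z'}
    rw [Ideal.Quotient.eq_zero_iff_mem.2 hy]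
    exact zero_mem _
  · intro heq
    obtain ⟨y, hy⟩ := Ideal.Quotient.mk_surjective z'
    have : y ∈ I := by
      rw [heq]
      change Ideal.Quotient.mk I y ∈ Ideal.span {z'}
      rw [hy]
      exact Ideal.mem_span_singleton_self _
    rw [Ideal.Quotient.eq_zero_iff_mem.2 this] at hy
    refine hzA ⟨c • (F.β (mg * mh⁻¹) - 1), ?_⟩
    change ψ₁ (c • (F.β (mg * mh⁻¹) - 1)) = z
    rw [map_smul, map_sub, map_one]
    exact (sub_eq_zero.1 hy.symm).symm

end GrothLib.UnipSplit14
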