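import Groth.Agent.Lib.HopfAG.TrigStruct
import Groth.Agent.Lib.Hopf.Antipode

/-!
# Eigenvectors modulo a Hopf subalgebra in a trigonalizable group
-/

universe u

set_option linter.style.haveILetI false

open TensorProduct HopfRep

namespace GrothLib.UnipSplit14

variable {k : Type u} [Field k] {A : Type u} [CommRing A] [HopfAlgebra k A]

local notation "Δ" => (Coalgebra.comul (R := k) (A := A))

/-- The function `x ↦ (f ⊗ id)(Δ x)`. -/
noncomputable def left (f : Module.Dual k A) : A →ₗ[k] A :=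
  (TensorProduct.lid k A).toLinearMap ∘ₗ f.rTensor A ∘ₗ Coalgebra.comul

/-- The function `x ↦ (id ⊗ f)(Δ x)`. -/
noncomputable def right (f : Module.Dual k A) : A →ₗ[k] A :=
  (TensorProduct.rid k A).toLinearMap ∘ₗ f.lTensor A ∘ₗ Coalgebra.comul

theorem comul_left (f : Module.Dual k A) (x : A) : Δ (left f x) = (left f).rTensor A (Δ x) := by
  have h1 : ∀ y : A ⊗[k] A, Δ (TensorProduct.lid k A (f.rTensor A y)) =
      TensorProduct.lid k (A ⊗[k] A) (f.rTensor (A ⊗[k] A) ((Coalgebra.comul (R := k)).lTensor A y)) := fun y => by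
    induction y using TensorProduct.induction_on with
    | zero => simp
    | tmul p q => simp
    | add p q hp hq => simp only [map_add, hp, hq]
  have h2 : ∀ y : A ⊗[k] A, TensorProduct.lid k (A ⊗[k] A) (f.rTensor (A ⊗[k] A)
      (TensorProduct.assoc k A A A ((Coalgebra.comul (R := k)).rTensor A y))) = (left f).rTensor A y := fun y => by
    induction y using TensorProduct.induction_on with
    | zero => simp
    | tmul p q =>
      simp only [left, LinearMap.rTensor_tmul, LinearMap.comp_apply, LinearEquiv.coe_coe]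
      induction Δ p using TensorProduct.induction_on with
      | zero => simp
      | tmul a c => simp [smul_tmul']
      | add a c ha hc => simp only [map_add, add_tmul, ha, hc]
    | add p q hp hq => simp only [map_add, hp, hq]
  change Δ (TensorProduct.lid k A (f.rTensor A (Δ x))) = _
  rw [h1, ← Coalgebra.coassoc_apply, h2]

theorem comul_right (f : Module.Dual k A) (x : A) : Δ (right f x) = (right f).lTensor A (Δ x) := by
  have h1 : ∀ y : A ⊗[k] A, Δ (TensorProduct.rid k A (f.lTensor A y)) =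
      ((TensorProduct.rid k A).toLinearMap ∘ₗ f.lTensor A).lTensor A
        (TensorProduct.assoc k A A A ((Coalgebra.comul (R := k)).rTensor A y)) := fun y => by
    induction y using TensorProduct.induction_on with
    | zero => simp
    | tmul p q =>
      rw [LinearMap.lTensor_tmul, TensorProduct.rid_tmul, map_smul, LinearMap.rTensor_tmul]
      induction Δ p using TensorProduct.induction_on with
      | zero => simp
      | tmul a c => simp [smul_tmul']
      | add a c ha hc => simp only [map_add, smul_add, add_tmul, ha, hc]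
    | add p q hp hq => simp only [map_add, hp, hq]
  change Δ (TensorProduct.rid k A (f.lTensor A (Δ x))) = _
  rw [h1, Coalgebra.coassoc_apply, ← LinearMap.comp_apply, ← LinearMap.lTensor_comp]
  rfl

theorem counit_left (f : Module.Dual k A) (x : A) : Coalgebra.counit (R := k) (left f x) = f x := by
  have h : ∀ y : A ⊗[k] A, Coalgebra.counit (R := k) (TensorProduct.lid k A (f.rTensor A y)) =
      f (TensorProduct.rid k A ((Coalgebra.counit (R := k) (A := A)).lTensor A y)) := fun y => by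
    induction y using TensorProduct.induction_on with
    | zero => simp
    | tmul p q => simp [mul_comm]
    | add p q hp hq => simp only [map_add, hp, hq]
  refine (h _).trans ?_
  rw [Coalgebra.lTensor_counit_comul]
  simp

theorem mkQ_rTensor_eq_zero {A' : Submodule k A} (hA : IsSubcomod (k := k) (A := A) A') {u : A} (hu : u ∈ A') :
    A'.mkQ.rTensor A (Δ u) = 0 :=
  (GrothLib.Comodule.isSubcomod_iff_mkQ.1 hA) u hu

theorem left_eq_zero {A' : Submodule k A} (hA : IsSubcomod (k := k) (A := A) A') (φ : Module.Dual k (A ⧸ A'))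
    {u : A} (hu : u ∈ A') : left (φ ∘ₗ A'.mkQ) u = 0 := by
  have h := mkQ_rTensor_eq_zero hA hu
  simp only [left, LinearMap.rTensor_comp, LinearMap.comp_apply, LinearEquiv.coe_coe, h, map_zero]

theorem exists_eigen (hT : IsTrigonalizable k A) {A' R : Submodule k A}
    (hA : IsSubcomod (k := k) (A := A) A') (hR : IsSubcomod (k := k) (A := A) R) {a : A} (ha : a ∈ R)
    (ha' : a ∉ A') :
    ∃ x ∈ R, x ∉ A' ∧ ∃ g : A, IsGroupLikeElem k g ∧ A'.mkQ.rTensor A (Δ x) = A'.mkQ x ⊗ₜ[k] g := by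
  classical
  obtain ⟨n, F, hF, h0, han, hstep⟩ := GrothLib.Trig.exists_chain hT a
  have hex : ∃ i, ∃ y ∈ F i ⊓ R, y ∉ A' := ⟨n, a, ⟨han, ha⟩, ha'⟩
  obtain ⟨x, hx, hxA⟩ := Nat.find_spec hex
  obtain ⟨j, hj⟩ : ∃ j, Nat.find hex = j + 1 := Nat.exists_eq_succ_of_ne_zero fun h => by
    rw [h, h0, bot_inf_eq, Submodule.mem_bot] at hx
    exact hxA (hx ▸ zero_mem _)
  have hmin : ∀ y ∈ F j ⊓ R, y ∈ A' := fun y hy => by
    by_contra h
    exact Nat.find_min hex (m := j) (by omega) ⟨y, hy, h⟩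
  rw [hj] at hx
  obtain ⟨w, hw⟩ := hstep j
  obtain ⟨u', hu', z', hz', hxeq⟩ := Submodule.mem_sup.1 (hw hx.1)
  obtain ⟨s', rfl⟩ := Submodule.mem_span_singleton.1 hz'
  have hs' : s' ≠ 0 := by
    rintro rfl
    rw [zero_smul, add_zero] at hxeq
    exact hxA (hmin x ⟨hxeq ▸ hu', hx.2⟩)
  have hspan : ∀ y ∈ F (j + 1) ⊓ R, ∃ r : k, A'.mkQ y = r • A'.mkQ x := by
    intro y hy
    obtain ⟨u, hu, z, hz, hyeq⟩ := Submodule.mem_sup.1 (hw hy.1)
    obtain ⟨s, rfl⟩ := Submodule.mem_span_singleton.1 hz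
    refine ⟨s * s'⁻¹, ?_⟩
    rw [← map_smul, Submodule.mkQ_apply, Submodule.mkQ_apply, Submodule.Quotient.eq]
    refine hmin _ ⟨?_, sub_mem hy.2 (R.smul_mem _ hx.2)⟩
    have e : y - (s * s'⁻¹) • x = u - (s * s'⁻¹) • u' := by
      rw [← hyeq, ← hxeq, smul_add, smul_smul, mul_assoc, inv_mul_cancel₀ hs', mul_one]
      abel
    rw [e]
    exact sub_mem hu ((F j).smul_mem _ hu')
  obtain ⟨t, ht⟩ := GrothLib.Comodule.isSubcomod_inf (hF (j + 1)) hR x hx
  obtain ⟨g, hg⟩ : ∃ g : A, A'.mkQ.rTensor A (Δ x) = A'.mkQ x ⊗ₜ[k] g := by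
    rw [show Δ x = (F (j + 1) ⊓ R).subtype.rTensor A t from ht.symm]
    clear ht
    induction t using TensorProduct.induction_on with
    | zero => exact ⟨0, by simp⟩
    | tmul y c =>
      obtain ⟨r, hr⟩ := hspan y y.2
      exact ⟨r • c, by rw [LinearMap.rTensor_tmul, LinearMap.rTensor_tmul, Submodule.subtype_apply, hr,
        TensorProduct.smul_tmul]⟩
    | add p q hp hq =>
      obtain ⟨gp, hp⟩ := hp
      obtain ⟨gq, hq⟩ := hq
      exact ⟨gp + gq, by rw [map_add, map_add, hp, hq, TensorProduct.tmul_add]⟩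
  have hqx : A'.mkQ x ≠ 0 := fun h => hxA ((Submodule.Quotient.mk_eq_zero A').1 h)
  obtain ⟨φ₀, hφ₀⟩ : ∃ φ : Module.Dual k (A ⧸ A'), φ (A'.mkQ x) ≠ 0 := by
    by_contra! hall
    exact hqx ((Module.forall_dual_apply_eq_zero_iff k _).mp hall)
  let φ : Module.Dual k (A ⧸ A') := (φ₀ (A'.mkQ x))⁻¹ • φ₀
  have hφ : φ (A'.mkQ x) = 1 := by
    show (φ₀ (A'.mkQ x))⁻¹ * φ₀ (A'.mkQ x) = 1
    exact inv_mul_cancel₀ hφ₀
  have hgl : left (φ ∘ₗ A'.mkQ) x = g := by
    simp only [left, LinearMap.rTensor_comp, LinearMap.comp_apply, LinearEquiv.coe_coe, hg,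
      LinearMap.rTensor_tmul, TensorProduct.lid_tmul, hφ, one_smul]
  let L : (A ⧸ A') →ₗ[k] A := A'.liftQ (left (φ ∘ₗ A'.mkQ)) fun u hu => left_eq_zero hA φ hu
  have hL : left (φ ∘ₗ A'.mkQ) = L ∘ₗ A'.mkQ := (A'.liftQ_mkQ _ _).symm
  refine ⟨x, hx.2, hxA, g, ⟨?_, ?_⟩, hg⟩
  · rw [← hgl, counit_left, LinearMap.comp_apply, hφ]
  · conv_lhs => rw [← hgl, comul_left, hL, LinearMap.rTensor_comp, LinearMap.comp_apply, hg,
      LinearMap.rTensor_tmul, ← LinearMap.comp_apply L, ← hL, hgl]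

theorem isGroupLikeElem_antipode {g : A} (hg : IsGroupLikeElem k g) :
    IsGroupLikeElem k (HopfAlgebraStruct.antipode k g) :=
  ⟨by rw [HopfAlgebra.counit_antipode, hg.counit_eq_one],
    by rw [GrothLib.Hopf.comul_antipode, hg.comul_eq_tmul_self, TensorProduct.comm_tmul, TensorProduct.map_tmul]⟩

/-- Outside a proper sub-bicomodule stable under the antipode there is an element which is an eigenvector on both
sides modulo it. -/
theorem exists_skew (hT : IsTrigonalizable k A) {A' : Submodule k A}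
    (hA : IsSubcomod (k := k) (A := A) A')
    (hS : ∀ u ∈ A', HopfAlgebraStruct.antipode k u ∈ A') {a : A} (ha : a ∉ A') :
    ∃ x, x ∉ A' ∧ ∃ g h : A, IsGroupLikeElem k g ∧ IsGroupLikeElem k h ∧
      A'.mkQ.rTensor A (Δ x) = A'.mkQ x ⊗ₜ[k] g ∧ A'.mkQ.lTensor A (Δ x) = h ⊗ₜ[k] A'.mkQ x := by
  obtain ⟨x₁, -, hx₁, g₁, hg₁, he₁⟩ := exists_eigen hT hA (R := ⊤)
    (GrothLib.Comodule.isSubcomod_top (k := k) (C := A) (V := A)) trivial ha
  let S : A →ₗ[k] A := HopfAlgebraStruct.antipode k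
  let h := S g₁
  let T : (A ⧸ A') →ₗ[k] (A ⧸ A') := A'.mapQ A' S fun u hu => hS u hu
  let Λ : A →ₗ[k] A ⊗[k] (A ⧸ A') :=
    A'.mkQ.lTensor A ∘ₗ Coalgebra.comul - (TensorProduct.mk k A (A ⧸ A') h) ∘ₗ A'.mkQ
  have hΛ : ∀ y, y ∈ LinearMap.ker Λ ↔ A'.mkQ.lTensor A (Δ y) = h ⊗ₜ[k] A'.mkQ y := fun y => by
    simp [Λ, sub_eq_zero]
  have hS₁ : S x₁ ∈ LinearMap.ker Λ := by
    rw [hΛ]
    change A'.mkQ.lTensor A (Δ (HopfAlgebraStruct.antipode k x₁)) = _
    rw [GrothLib.Hopf.comul_antipode]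
    have e : ∀ t : A ⊗[k] A, A'.mkQ.lTensor A (TensorProduct.map S S (TensorProduct.comm k A A t)) =
        TensorProduct.comm k (A ⧸ A') A (TensorProduct.map T S (A'.mkQ.rTensor A t)) := fun t => by
      induction t using TensorProduct.induction_on with
      | zero => simp
      | tmul p q => simp [T]
      | add p q hp hq => simp only [map_add, hp, hq]
    rw [e, he₁]
    simp [T, h, S]
  have hS₂ : S x₁ ∉ A' := fun hh => hx₁ <| by
    have := hS _ hh
    rwa [show HopfAlgebraStruct.antipode k (S x₁) = x₁ from GrothLib.Hopf.antipode_antipode k x₁] at this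
  have hY : IsSubcomod (k := k) (A := A) (LinearMap.ker Λ) := by
    refine GrothLib.Comodule.isSubcomod_iff_op.mpr fun f y hy => ?_
    change right f y ∈ _
    rw [hΛ] at hy ⊢
    have h0 : ∀ u ∈ A', right f u ∈ A' := fun u hu => GrothLib.Comodule.isSubcomod_iff_op.mp hA f u hu
    let T' : (A ⧸ A') →ₗ[k] (A ⧸ A') := A'.mapQ A' (right f) fun u hu => h0 u hu
    have hT' : A'.mkQ ∘ₗ right f = T' ∘ₗ A'.mkQ := (A'.mapQ_mkQ A' _).symm
    rw [comul_right, ← LinearMap.comp_apply, ← LinearMap.lTensor_comp, hT', LinearMap.lTensor_comp,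
      LinearMap.comp_apply, hy, LinearMap.lTensor_tmul, ← LinearMap.comp_apply T', ← hT', LinearMap.comp_apply]
  obtain ⟨x, hx, hxA, g, hg, he⟩ := exists_eigen hT hA hY hS₁ hS₂
  exact ⟨x, hxA, g, h, hg, isGroupLikeElem_antipode hg₁, he, (hΛ x).1 hx⟩

end GrothLib.UnipSplit14
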