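import Groth.Agent.Lib.UnipSplit14.Eigen
import Groth.Agent.Lib.Hopf.Sub
import Groth.Agent.Lib.Hopf.Faithful
import Mathlib.Algebra.Polynomial.AlgebraMap
import Mathlib.Algebra.Polynomial.Div
import Mathlib.FieldTheory.IsAlgClosed.Basic
import Mathlib.RingTheory.Flat.FaithfullyFlat.Algebra

/-!
# Splitting off a skew-primitive element over a group algebra
-/

universe u

set_option linter.style.haveILetI false

open TensorProduct Polynomial

namespace GrothLib.UnipSplit14

variable {k : Type u} [Field k] {A C : Type u} [CommRing A] [HopfAlgebra k A] [CommRing C] [HopfAlgebra k C]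
  {M : Type u} [CommGroup M]

/-- A linearly spanning group of group-like elements. -/
structure Frame (k : Type u) [Field k] (C : Type u) [CommRing C] [HopfAlgebra k C] (M : Type u) [CommGroup M] where
  β : M →* C
  basis : Module.Basis M k C
  basis_eq : ∀ m, basis m = β m
  isGroupLike : ∀ m, IsGroupLikeElem k (β m)

variable (F : Frame k C M) (ψ : C →ₐc[k] A) (z : A) (γ : M)

/-- The linear map `b ↦ Σ δₘ(b) χ(ψ(m) γʲ zˡ) • m`. -/
noncomputable def coef (χ : Module.Dual k A) (j l : ℕ) : C →ₗ[k] C :=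
  F.basis.constr k fun m => χ (ψ (F.β m) * ψ (F.β γ) ^ j * z ^ l) • F.β m

theorem coef_one (χ : Module.Dual k A) (j l : ℕ) :
    coef F ψ z γ χ j l 1 = χ (ψ (F.β γ) ^ j * z ^ l) • (1 : C) := by
  have e : (1 : C) = F.basis 1 := by rw [F.basis_eq, map_one]
  conv_lhs => rw [e, coef, Module.Basis.constr_basis, map_one, map_one, one_mul]

theorem coord_coef (χ : Module.Dual k A) (j l : ℕ) (b : C) :
    F.basis.coord 1 (coef F ψ z γ χ j l b) = F.basis.coord 1 b * χ (ψ (F.β γ) ^ j * z ^ l) := by
  have : F.basis.coord 1 ∘ₗ coef F ψ z γ χ j l = (χ (ψ (F.β γ) ^ j * z ^ l)) • F.basis.coord 1 := by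
    refine F.basis.ext fun m => ?_
    rw [LinearMap.comp_apply, coef, Module.Basis.constr_basis, map_smul, ← F.basis_eq, LinearMap.smul_apply]
    by_cases hm : m = 1
    · subst hm; simp [F.basis_eq]
    · simp [hm]
  exact (LinearMap.congr_fun this b).trans (mul_comm _ _)

variable (hz : Coalgebra.comul (R := k) z = z ⊗ₜ[k] ψ (F.β γ) + 1 ⊗ₜ[k] z)
include hz

theorem right_term (χ : Module.Dual k A) (i : ℕ) (b : C) :
    right χ (ψ b * z ^ i) =
      ∑ j ∈ Finset.range (i + 1), ψ ((i.choose j : k) • coef F ψ z γ χ j (i - j) b) * z ^ j := by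
  suffices (right χ ∘ₗ LinearMap.mulRight k (z ^ i) ∘ₗ (ψ : C →ₐ[k] A).toLinearMap) =
      ∑ j ∈ Finset.range (i + 1),
        LinearMap.mulRight k (z ^ j) ∘ₗ (ψ : C →ₐ[k] A).toLinearMap ∘ₗ ((i.choose j : k) • coef F ψ z γ χ j (i - j)) by
    have h := LinearMap.congr_fun this b
    simp only [LinearMap.comp_apply, LinearMap.sum_apply, LinearMap.mulRight_apply, LinearMap.smul_apply] at h
    exact h
  refine F.basis.ext fun m => ?_
  simp only [LinearMap.comp_apply, LinearMap.sum_apply, LinearMap.mulRight_apply, LinearMap.smul_apply,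
    AlgHom.toLinearMap_apply, coef, Module.Basis.constr_basis]
  rw [F.basis_eq]
  change right χ (ψ (F.β m) * z ^ i) = _
  rw [right, LinearMap.comp_apply, LinearMap.comp_apply, Bialgebra.comul_mul, Bialgebra.comul_pow, hz,
    (F.isGroupLike m).map ψ |>.comul_eq_tmul_self, add_pow, Finset.mul_sum, map_sum, map_sum]
  refine Finset.sum_congr rfl fun j _ => ?_
  rw [Algebra.TensorProduct.tmul_pow, Algebra.TensorProduct.tmul_pow, one_pow,
    Algebra.TensorProduct.tmul_mul_tmul, mul_one, ← nsmul_eq_mul', mul_smul_comm, Algebra.TensorProduct.tmul_mul_tmul,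
    map_nsmul, map_nsmul, LinearMap.lTensor_tmul, LinearEquiv.coe_coe, TensorProduct.rid_tmul, map_smul, map_smul,
    smul_mul_assoc, smul_mul_assoc, ← Nat.cast_smul_eq_nsmul k, mul_assoc (ψ (F.β m))]
  rfl

theorem right_relation (χ : Module.Dual k A) (n : ℕ) (e : ℕ → C) :
    right χ (∑ i ∈ Finset.range (n + 1), ψ (e i) * z ^ i) =
      ∑ j ∈ Finset.range (n + 1),
        ψ (∑ i ∈ Finset.range (n + 1), (i.choose j : k) • coef F ψ z γ χ j (i - j) (e i)) * z ^ j := by
  rw [map_sum]
  simp only [map_sum, Finset.sum_mul]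
  rw [Finset.sum_comm (γ := ℕ) (s := Finset.range (n + 1)) (t := Finset.range (n + 1))]
  refine Finset.sum_congr rfl fun i hi => ?_
  rw [right_term F ψ z γ hz]
  refine Finset.sum_subset (Finset.range_mono (by simp only [Finset.mem_range] at hi; omega)) fun j _ hj => ?_
  simp only [Finset.mem_range, not_lt] at hj
  rw [Nat.choose_eq_zero_of_lt (by omega), Nat.cast_zero, zero_smul, map_zero, zero_mul]

variable (hψ : Function.Injective ψ)
include hψ

theorem exists_monic {n : ℕ} {e : ℕ → C} (h : ∑ i ∈ Finset.range (n + 1), ψ (e i) * z ^ i = 0) (hn : e n ≠ 0) :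
    ∃ b : ℕ → C, b n = 1 ∧ ∑ i ∈ Finset.range (n + 1), ψ (b i) * z ^ i = 0 := by
  classical
  obtain ⟨m, hm⟩ : ∃ m, F.basis.coord m (e n) ≠ 0 := by
    by_contra! hall
    exact hn (F.basis.ext_elem fun m => by rw [map_zero]; exact hall m)
  obtain ⟨P, hP⟩ := (ψ : C →ₐ[k] A).toLinearMap.exists_leftInverse_of_injective (LinearMap.ker_eq_bot.mpr hψ)
  have hP' : ∀ c, P (ψ c) = c := fun c => LinearMap.congr_fun hP c
  let χ : Module.Dual k A := F.basis.coord (m * γ ^ n) ∘ₗ P
  have hc : coef F ψ z γ χ n 0 = (LinearMap.toSpanSingleton k C (F.β m)) ∘ₗ F.basis.coord m := by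
    refine F.basis.ext fun m' => ?_
    simp only [coef, Module.Basis.constr_basis]
    simp only [χ, LinearMap.comp_apply, LinearMap.toSpanSingleton_apply, pow_zero, mul_one, ← map_pow, ← map_mul, hP']
    rw [← F.basis_eq (m' * γ ^ n)]
    by_cases hh : m' = m
    · subst hh; simp
    · simp [hh, fun h' : m' * γ ^ n = m * γ ^ n => hh (mul_right_cancel h')]
  let d : ℕ → C := fun j => ∑ i ∈ Finset.range (n + 1), (i.choose j : k) • coef F ψ z γ χ j (i - j) (e i)
  have hd : d n = F.basis.coord m (e n) • F.β m := by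
    simp only [d]
    rw [Finset.sum_eq_single n, Nat.choose_self, Nat.cast_one, one_smul, Nat.sub_self, hc]
    · rfl
    · intro i hi hne
      simp only [Finset.mem_range] at hi
      rw [Nat.choose_eq_zero_of_lt (by omega), Nat.cast_zero, zero_smul]
    · simp
  let u : C := (F.basis.coord m (e n))⁻¹ • F.β m⁻¹
  refine ⟨fun j => u * d j, ?_, ?_⟩
  · simp only [hd, u]
    rw [smul_mul_smul_comm, inv_mul_cancel₀ hm, ← map_mul, inv_mul_cancel, map_one, one_smul]
  · have h' := congrArg (right χ) h
    rw [map_zero, right_relation F ψ z γ hz] at h'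
    simp only [map_mul, mul_assoc]
    rw [← Finset.mul_sum]
    exact (congrArg (ψ u * ·) h').trans (mul_zero _)

theorem low_eq_zero {n : ℕ}
    (hmin : ∀ d, d < n → ¬ ∃ b : ℕ → C, b d = 1 ∧ ∑ i ∈ Finset.range (d + 1), ψ (b i) * z ^ i = 0) :
    ∀ d, d ≤ n → ∀ e : ℕ → C, ∑ i ∈ Finset.range d, ψ (e i) * z ^ i = 0 → ∀ i < d, e i = 0 := by
  intro d
  induction d with
  | zero => intro _ e _ i hi; omega
  | succ d ih =>
    intro hd e he i hi
    have h0 : e d = 0 := by
      by_contra hne
      exact hmin d (by omega) (exists_monic F ψ z γ hz hψ he hne)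
    rw [Finset.sum_range_succ, h0, map_zero, zero_mul, add_zero] at he
    rcases Nat.lt_succ_iff_lt_or_eq.1 hi with hlt | rfl
    · exact ih (by omega) e he i hlt
    · exact h0

theorem exists_root [IsAlgClosed k] {n : ℕ} (hn0 : n ≠ 0)
    (hmin : ∀ d, d < n → ¬ ∃ b : ℕ → C, b d = 1 ∧ ∑ i ∈ Finset.range (d + 1), ψ (b i) * z ^ i = 0)
    {b : ℕ → C} (hbn : b n = 1) (hb : ∑ i ∈ Finset.range (n + 1), ψ (b i) * z ^ i = 0) :
    ∃ c : k, ∑ i ∈ Finset.range (n + 1), b i * (c • (F.β γ - 1)) ^ i = 0 := by
  classical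
  have hlow : ∀ e : ℕ → C, ∑ i ∈ Finset.range n, ψ (e i) * z ^ i = 0 → ∀ i < n, e i = 0 :=
    low_eq_zero F ψ z γ hz hψ hmin n le_rfl
  let a : ℕ → k := fun i => F.basis.coord 1 (b i)
  have han : a n = 1 := by
    simp only [a, hbn]
    rw [show (1 : C) = F.basis 1 by rw [F.basis_eq, map_one]]
    simp
  -- the functional equations
  have key : ∀ j ≤ n, ∑ i ∈ Finset.range (n + 1), ((i.choose j : k) * a i) • (ψ (F.β γ) ^ j * z ^ (i - j)) =
      a j • ψ (F.β γ) ^ n := by
    intro j hj
    rcases eq_or_lt_of_le hj with rfl | hjn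
    · rw [Finset.sum_eq_single j]
      · simp
      · intro i hi hne
        simp only [Finset.mem_range] at hi
        rw [Nat.choose_eq_zero_of_lt (by omega), Nat.cast_zero, zero_mul, zero_smul]
      · simp
    refine sub_eq_zero.1 ((Module.forall_dual_apply_eq_zero_iff k _).mp fun χ => ?_)
    let d : ℕ → C := fun j => ∑ i ∈ Finset.range (n + 1), (i.choose j : k) • coef F ψ z γ χ j (i - j) (b i)
    have hd : d n = χ (ψ (F.β γ) ^ n) • (1 : C) := by
      simp only [d]
      rw [Finset.sum_eq_single n, Nat.choose_self, Nat.cast_one, one_smul, Nat.sub_self, hbn, coef_one, pow_zero,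
        mul_one]
      · intro i hi hne
        simp only [Finset.mem_range] at hi
        rw [Nat.choose_eq_zero_of_lt (by omega), Nat.cast_zero, zero_smul]
      · simp
    have h' := congrArg (right χ) hb
    rw [map_zero, right_relation F ψ z γ hz] at h'
    change ∑ j ∈ Finset.range (n + 1), ψ (d j) * z ^ j = 0 at h'
    have hdj : d j - χ (ψ (F.β γ) ^ n) • b j = 0 := by
      refine hlow (fun j => d j - χ (ψ (F.β γ) ^ n) • b j) ?_ j hjn
      have h2 : ∑ i ∈ Finset.range (n + 1), ψ (d i - χ (ψ (F.β γ) ^ n) • b i) * z ^ i = 0 := by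
        simp only [map_sub, map_smul, sub_mul, smul_mul_assoc, Finset.sum_sub_distrib, ← Finset.smul_sum, hb, h',
          smul_zero, sub_zero]
      rwa [Finset.sum_range_succ, hd, hbn, sub_self, map_zero, zero_mul, add_zero] at h2
    have := congrArg (F.basis.coord 1) hdj
    simp only [d, map_sub, map_sum, map_smul, map_zero, coord_coef, smul_eq_mul] at this
    simp only [map_sub, map_sum, map_smul, smul_eq_mul]
    refine Eq.trans ?_ this
    simp only [a, mul_assoc, mul_comm, mul_left_comm]
  have hconst : ∀ i, 0 < i → i < n → b i = a i • (1 : C) := by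
    intro i hi0 hin
    have h0 := key 0 (Nat.zero_le n)
    have h1 : ∑ i ∈ Finset.range (n + 1),
        ψ ((a i • (1 : C) - b i) - if i = 0 then a 0 • F.β γ ^ n else 0) * z ^ i = 0 := by
      have e1 : ∑ i ∈ Finset.range (n + 1), ψ (if i = 0 then a 0 • F.β γ ^ n else 0) * z ^ i =
          a 0 • ψ (F.β γ) ^ n := by
        rw [Finset.sum_eq_single 0]
        · simp
        · intro i _ hne; simp [hne]
        · simp
      simp only [map_sub, map_smul, map_one, sub_mul, Finset.sum_sub_distrib, hb, e1, sub_zero, smul_mul_assoc,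
        one_mul]
      refine sub_eq_zero.2 (Eq.trans (Finset.sum_congr rfl fun i _ => ?_) h0)
      simp
    rw [Finset.sum_range_succ, han, hbn, one_smul, sub_self, if_neg hn0, sub_self, map_zero, zero_mul, add_zero] at h1
    have h2 := hlow _ h1 i hin
    rw [if_neg (by omega), sub_zero, sub_eq_zero] at h2
    exact h2.symm
  have hb0 : b 0 = a 0 • ((1 : C) - F.β γ ^ n) := by
    have h0 := key 0 (Nat.zero_le n)
    have h1 : ∑ i ∈ Finset.range n, ψ ((a i • (1 : C) - b i) - if i = 0 then a 0 • F.β γ ^ n else 0) * z ^ i = 0 := by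
      have h2 : ∑ i ∈ Finset.range n, ψ (b i) * z ^ i = - z ^ n := by
        rw [Finset.sum_range_succ, hbn, map_one, one_mul] at hb
        exact eq_neg_of_add_eq_zero_left hb
      have h3 : ∑ i ∈ Finset.range n, ψ (a i • (1 : C)) * z ^ i = a 0 • ψ (F.β γ) ^ n - z ^ n := by
        rw [Finset.sum_range_succ] at h0
        simp only [Nat.choose_zero_right, Nat.cast_one, one_mul, pow_zero, Nat.sub_zero, han, one_smul] at h0
        rw [← h0, add_sub_cancel_right]
        exact Finset.sum_congr rfl fun i _ => by rw [map_smul, map_one, smul_mul_assoc, one_mul]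
      have e1 : ∑ i ∈ Finset.range n, ψ (if i = 0 then a 0 • F.β γ ^ n else 0) * z ^ i = a 0 • ψ (F.β γ) ^ n := by
        rw [Finset.sum_eq_single 0]
        · simp
        · intro i _ hne; simp [hne]
        · simp [hn0, Nat.pos_iff_ne_zero]
      simp only [map_sub, sub_mul, Finset.sum_sub_distrib, h2, h3, e1]
      abel
    have h2 := hlow _ h1 0 (Nat.pos_iff_ne_zero.2 hn0)
    rw [if_pos rfl, sub_sub, sub_eq_zero] at h2
    rw [smul_sub, h2, add_sub_cancel_right]
  have hjeq : ∀ j, 0 < j → j < n → (a j • F.β γ ^ j = a j • F.β γ ^ n) ∧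
      ∀ i, j < i → i ≤ n → (i.choose j : k) * a i = 0 := by
    intro j hj0 hjn
    have h := key j hjn.le
    rw [show n + 1 = j + (n + 1 - j) by omega, Finset.sum_range_add] at h
    rw [Finset.sum_eq_zero (fun i hi => by
      simp only [Finset.mem_range] at hi
      rw [Nat.choose_eq_zero_of_lt hi, Nat.cast_zero, zero_mul, zero_smul]), zero_add] at h
    let e : ℕ → C := fun l => (((j + l).choose j : k) * a (j + l)) • F.β γ ^ j -
      if l = 0 then a j • F.β γ ^ n else 0
    have hsum : ∑ l ∈ Finset.range (n + 1 - j), ψ (e l) * z ^ l = 0 := by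
      have e1 : ∑ l ∈ Finset.range (n + 1 - j), ψ (if l = 0 then a j • F.β γ ^ n else 0) * z ^ l =
          a j • ψ (F.β γ) ^ n := by
        rw [Finset.sum_eq_single 0]
        · simp
        · intro i _ hne; simp [hne]
        · intro hh; simp only [Finset.mem_range] at hh; omega
      simp only [e, map_sub, sub_mul, Finset.sum_sub_distrib, e1]
      refine sub_eq_zero.2 (Eq.trans (Finset.sum_congr rfl fun l _ => ?_) h)
      rw [map_smul, map_pow, smul_mul_assoc, Nat.add_sub_cancel_left]
    have hz' := low_eq_zero F ψ z γ hz hψ hmin (n + 1 - j) (by omega) e hsum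
    refine ⟨?_, fun i hji hin => ?_⟩
    · have := hz' 0 (by omega)
      simpa [e, sub_eq_zero] using this
    · have := hz' (i - j) (by omega)
      simp only [e, if_neg (show i - j ≠ 0 by omega), sub_zero, show j + (i - j) = i by omega] at this
      rcases smul_eq_zero.1 this with h0 | h0
      · exact h0
      · exact absurd h0 ((F.isGroupLike γ).pow (n := j)).ne_zero
  -- the polynomial
  let co : ℕ → k := fun i => if i = 0 then - a 0 else a i
  let p : k[X] := X ^ n + ∑ i : Fin n, Polynomial.C (co i) * X ^ (i : ℕ)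
  have hp : p.degree = n := by
    rw [degree_add_eq_left_of_degree_lt, degree_X_pow]
    rw [degree_X_pow]
    exact degree_sum_fin_lt _
  obtain ⟨c, hc⟩ := IsAlgClosed.exists_root p (by rw [hp]; exact_mod_cast hn0)
  refine ⟨c, ?_⟩
  have hterm : ∀ i, 0 < i → i ≤ n → b i * (c • (F.β γ - 1)) ^ i = (a i * c ^ i) • (F.β γ ^ n - 1) := by
    intro i hi0 hin
    have hbi : b i = a i • (1 : C) := by
      rcases eq_or_lt_of_le hin with rfl | hlt
      · rw [han, hbn, one_smul]
      · exact hconst i hi0 hlt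
    rw [hbi, smul_pow, smul_mul_smul_comm, one_mul]
    by_cases hai : a i = 0
    · simp [hai]
    congr 1
    have hch : ∀ j, 0 < j → j < i → (i.choose j : C) = 0 := fun j hj0 hji => by
      have h := (hjeq j hj0 (by omega)).2 i hji hin
      rw [← map_natCast (algebraMap k C), (mul_eq_zero.1 h).resolve_right hai, map_zero]
    have hbin : ∀ x : C, (x + -1) ^ i = x ^ i + (-1) ^ i := fun x => by
      rw [add_pow, Finset.sum_range_succ, Nat.choose_self, Nat.sub_self, pow_zero, Nat.cast_one, mul_one, mul_one,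
        Finset.sum_eq_single 0]
      · simp [add_comm]
      · intro j hj hne
        simp only [Finset.mem_range] at hj
        rw [hch j (by omega) hj, mul_zero]
      · simp; omega
    have hneg : ((-1 : C)) ^ i = -1 := by
      have h := hbin 1
      rw [add_neg_cancel, zero_pow (by omega), one_pow] at h
      exact eq_neg_of_add_eq_zero_right h.symm
    rw [sub_eq_add_neg, hbin, hneg, ← sub_eq_add_neg]
    rcases eq_or_lt_of_le hin with rfl | hlt
    · rfl
    · rw [show F.β γ ^ i = F.β γ ^ n from (smul_right_injective C hai) ((hjeq i hi0 hlt).1)]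
  have hsum : ∑ i ∈ Finset.range (n + 1), b i * (c • (F.β γ - 1)) ^ i =
      p.eval c • (F.β γ ^ n - 1) := by
    have e : p.eval c = ∑ i ∈ Finset.range (n + 1), (if i = 0 then - a 0 else a i) * c ^ i := by
      simp only [p, eval_add, eval_pow, eval_X, eval_finsetSum, eval_mul, eval_C]
      rw [Finset.sum_range_succ, if_neg hn0, han, one_mul, add_comm,
        Fin.sum_univ_eq_sum_range (fun i => co i * c ^ i)]
    rw [e, Finset.sum_smul]
    refine Finset.sum_congr rfl fun i hi => ?_
    rcases Nat.eq_zero_or_pos i with rfl | hi0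
    · rw [pow_zero, pow_zero, mul_one, mul_one, if_pos rfl, hb0, neg_smul, ← smul_neg, neg_sub]
    · simp only [Finset.mem_range] at hi
      rw [if_neg (by omega), hterm i hi0 (by omega)]
  rw [hsum, show p.eval c = 0 from hc, zero_smul]

end GrothLib.UnipSplit14
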