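import Groth.Agent.Lib.UnipSplit14.Skew

/-!
# A skew-primitive element can be killed without shrinking the diagonalizable quotient
-/

universe u

set_option linter.style.haveILetI false

open TensorProduct Polynomial

namespace GrothLib.UnipSplit14

variable {k : Type u} [Field k] {A C : Type u} [CommRing A] [HopfAlgebra k A] [CommRing C] [HopfAlgebra k C]
  {M : Type u} [CommGroup M]

theorem counit_skew {z g : A} (hg : IsGroupLikeElem k g)
    (hz : Coalgebra.comul (R := k) z = z ⊗ₜ[k] g + 1 ⊗ₜ[k] z) : Coalgebra.counit (R := k) z = 0 := by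
  have h := congrArg (fun w => Coalgebra.counit (R := k) (TensorProduct.lid k A (Coalgebra.counit.rTensor A w))) hz
  simp only [Coalgebra.rTensor_counit_comul, map_add, LinearMap.rTensor_tmul, TensorProduct.lid_tmul, map_smul,
    one_smul, smul_eq_mul, Bialgebra.counit_one, hg.counit_eq_one, mul_one] at h
  simpa using h

theorem antipode_skew {z g : A} (hg : IsGroupLikeElem k g)
    (hz : Coalgebra.comul (R := k) z = z ⊗ₜ[k] g + 1 ⊗ₜ[k] z) :
    HopfAlgebraStruct.antipode k z = -z * HopfAlgebraStruct.antipode k g := by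
  have h1 := HopfAlgebra.mul_antipode_rTensor_comul_apply (R := k) z
  have h2 := HopfAlgebra.mul_antipode_rTensor_comul_apply (R := k) g
  rw [counit_skew hg hz, map_zero, hz, map_add, map_add, LinearMap.rTensor_tmul, LinearMap.rTensor_tmul,
    LinearMap.mul'_apply, LinearMap.mul'_apply, HopfAlgebra.antipode_one, one_mul] at h1
  rw [hg.counit_eq_one, map_one, hg.comul_eq_tmul_self, LinearMap.rTensor_tmul, LinearMap.mul'_apply] at h2
  calc HopfAlgebraStruct.antipode k z
      = HopfAlgebraStruct.antipode k z * (HopfAlgebraStruct.antipode k g * g) := by rw [h2, mul_one]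
    _ = (HopfAlgebraStruct.antipode k z * g) * HopfAlgebraStruct.antipode k g := by ring
    _ = -z * HopfAlgebraStruct.antipode k g := by rw [eq_neg_of_add_eq_zero_left h1]

theorem isHopfIdeal_span_skew {z g : A} (hg : IsGroupLikeElem k g)
    (hz : Coalgebra.comul (R := k) z = z ⊗ₜ[k] g + 1 ⊗ₜ[k] z) :
    (Ideal.span {z}).IsHopfIdeal k where
  counit_eq_zero x hx := by
    obtain ⟨a, rfl⟩ := Ideal.mem_span_singleton'.1 hx
    rw [Bialgebra.counit_mul, counit_skew hg hz, mul_zero]
  map_mkQ_comul_eq_zero x hx := by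
    obtain ⟨a, rfl⟩ := Ideal.mem_span_singleton'.1 hx
    show Algebra.TensorProduct.map (Ideal.Quotient.mkₐ k (Ideal.span {z}))
      (Ideal.Quotient.mkₐ k (Ideal.span {z})) (Coalgebra.comul (R := k) (a * z)) = 0
    have hz0 : Ideal.Quotient.mkₐ k (Ideal.span {z}) z = 0 :=
      Ideal.Quotient.eq_zero_iff_mem.2 (Ideal.mem_span_singleton_self z)
    rw [Bialgebra.comul_mul, map_mul, hz, map_add, Algebra.TensorProduct.map_tmul, Algebra.TensorProduct.map_tmul,
      hz0, TensorProduct.zero_tmul, TensorProduct.tmul_zero, add_zero, mul_zero]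
  antipode_mem x hx := by
    obtain ⟨a, rfl⟩ := Ideal.mem_span_singleton'.1 hx
    change HopfAlgebra.antipodeAlgHom k A (a * z) ∈ _
    rw [map_mul]
    refine Ideal.mul_mem_left _ _ ?_
    change HopfAlgebraStruct.antipode k z ∈ _
    rw [antipode_skew hg hz, neg_mul]
    exact neg_mem (Ideal.mul_mem_right _ _ (Ideal.mem_span_singleton_self z))

theorem skew_sub {z g : A} (hg : IsGroupLikeElem k g)
    (hz : Coalgebra.comul (R := k) z = z ⊗ₜ[k] g + 1 ⊗ₜ[k] z) (c : k) :
    Coalgebra.comul (R := k) (z - c • (g - 1)) =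
      (z - c • (g - 1)) ⊗ₜ[k] g + 1 ⊗ₜ[k] (z - c • (g - 1)) := by
  rw [map_sub, map_smul, map_sub, hz, hg.comul_eq_tmul_self, Bialgebra.comul_one, Algebra.TensorProduct.one_def,
    TensorProduct.sub_tmul, TensorProduct.tmul_sub, ← TensorProduct.smul_tmul', TensorProduct.sub_tmul,
    TensorProduct.tmul_smul, TensorProduct.tmul_sub, smul_sub, smul_sub, smul_sub]
  abel

theorem exists_shift [IsAlgClosed k] (F : Frame k C M) (ψ : C →ₐc[k] A) (hψ : Function.Injective ψ) (z : A) (γ : M)
    (hz : Coalgebra.comul (R := k) z = z ⊗ₜ[k] ψ (F.β γ) + 1 ⊗ₜ[k] z) :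
    ∃ c : k, ∀ b : C, ψ b ∈ Ideal.span {z - c • (ψ (F.β γ) - 1)} → b = 0 := by
  classical
  let φe : C[X] →ₐ[k] A := Polynomial.aevalTower (ψ : C →ₐ[k] A) z
  have hφe : ∀ (q : C[X]) (n : ℕ), q.natDegree < n → φe q = ∑ i ∈ Finset.range n, ψ (q.coeff i) * z ^ i :=
    fun q n hn => by
      conv_lhs => rw [q.as_sum_range' n hn, map_sum]
      refine Finset.sum_congr rfl fun i _ => ?_
      rw [← Polynomial.C_mul_X_pow_eq_monomial, map_mul, map_pow, aevalTower_X, aevalTower_C]
      rfl
  -- the kernel of `φe` vanishes at a suitable point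
  obtain ⟨c, hc⟩ : ∃ c : k, ∀ q : C[X], φe q = 0 → q.eval (c • (F.β γ - 1)) = 0 := by
    let P : ℕ → Prop := fun d => ∃ b : ℕ → C, b d = 1 ∧ ∑ i ∈ Finset.range (d + 1), ψ (b i) * z ^ i = 0
    by_cases hP : ∃ d, P d
    · let n := Nat.find hP
      obtain ⟨b, hbn, hb⟩ := Nat.find_spec hP
      have hmin : ∀ d, d < n → ¬ P d := fun d hd => Nat.find_min hP hd
      have hn0 : n ≠ 0 := fun h0 => by
        change b n = 1 at hbn
        change ∑ i ∈ Finset.range (n + 1), ψ (b i) * z ^ i = 0 at hb
        rw [h0] at hb hbn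
        rw [zero_add, Finset.sum_range_one, pow_zero, mul_one, hbn, map_one] at hb
        exact (IsGroupLikeElem.one (R := k) (A := A)).ne_zero hb
      obtain ⟨c, hc⟩ := exists_root F ψ z γ hz hψ hn0 hmin hbn hb
      refine ⟨c, fun q hq => ?_⟩
      haveI : Nontrivial C := ⟨1, 0, (IsGroupLikeElem.one (R := k) (A := C)).ne_zero⟩
      let f : C[X] := X ^ n + ∑ i : Fin n, Polynomial.C (b i) * X ^ (i : ℕ)
      have hfdeg : f.degree = n := by
        rw [degree_add_eq_left_of_degree_lt, degree_X_pow]
        rw [degree_X_pow]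
        exact degree_sum_fin_lt _
      have hfm : f.Monic := monic_X_pow_add (degree_sum_fin_lt _)
      have hfeval : ∀ {T : Type u} [CommRing T] (g : C →+* T) (t : T),
          f.eval₂ g t = ∑ i ∈ Finset.range (n + 1), g (b i) * t ^ i := by
        intro T _ g t
        simp only [f, eval₂_add, eval₂_pow, eval₂_X, eval₂_finsetSum, eval₂_mul, eval₂_C]
        rw [Finset.sum_range_succ, show b n = 1 from hbn, map_one, one_mul, add_comm,
          Fin.sum_univ_eq_sum_range (fun i => g (b i) * t ^ i)]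
      have hf0 : φe f = 0 := (hfeval _ z).trans hb
      have hr : q %ₘ f = 0 := by
        by_contra hne
        have hlt : (q %ₘ f).natDegree < n := by
          have := degree_modByMonic_lt q hfm
          rwa [hfdeg, degree_eq_natDegree hne, Nat.cast_lt] at this
        have h0 : φe (q %ₘ f) = 0 := by
          have := congrArg φe (modByMonic_add_div q f)
          rwa [map_add, map_mul, hf0, zero_mul, add_zero, hq] at this
        rw [hφe _ n hlt] at h0
        refine hne (Polynomial.ext fun i => ?_)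
        rcases lt_or_ge i n with hi | hi
        · rw [low_eq_zero F ψ z γ hz hψ hmin n le_rfl _ h0 i hi, coeff_zero]
        · rw [coeff_eq_zero_of_natDegree_lt (by omega), coeff_zero]
      have hq' := modByMonic_add_div q f
      rw [hr, zero_add] at hq'
      rw [← hq', eval_mul, show f.eval (c • (F.β γ - 1)) = 0 from (hfeval _ _).trans hc, zero_mul]
    · refine ⟨0, fun q hq => ?_⟩
      rw [hφe q (q.natDegree + 1) (Nat.lt_succ_self _)] at hq
      have h0 := low_eq_zero F ψ z γ hz hψ (n := q.natDegree + 1) (fun d _ h => hP ⟨d, h⟩) _ le_rfl _ hq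
      rw [show q = 0 from Polynomial.ext fun i => by
        rcases lt_or_ge i (q.natDegree + 1) with hi | hi
        · rw [h0 i hi, coeff_zero]
        · rw [coeff_eq_zero_of_natDegree_lt (by omega), coeff_zero], eval_zero]
  refine ⟨c, fun b hb => ?_⟩
  -- the Hopf subalgebra generated by `C` and `z`
  let A' : Subalgebra k A := φe.range
  have hCA : ∀ b, ψ b ∈ A' := fun b => ⟨Polynomial.C b, aevalTower_C _ _ _⟩
  have hzA : z ∈ A' := ⟨X, aevalTower_X _ _⟩
  have hA' : SGA3.IsHopfSubalgebra k A A' := by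
    constructor
    · rintro _ ⟨q, rfl⟩
      change _ ∈ (Algebra.TensorProduct.map A'.val A'.val).range
      induction q using Polynomial.induction_on' with
      | add p q hp hq =>
        simp only [RingHom.coe_coe, map_add] at hp hq ⊢
        exact add_mem hp hq
      | monomial i b =>
        change Coalgebra.comul (R := k) (φe _) ∈ _
        rw [← Polynomial.C_mul_X_pow_eq_monomial, map_mul, map_pow, aevalTower_X, aevalTower_C, Bialgebra.comul_mul,
          Bialgebra.comul_pow]
        refine mul_mem ?_ (pow_mem ?_ _)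
        · change Coalgebra.comul (R := k) (ψ b) ∈ _
          rw [← CoalgHomClass.map_comp_comul_apply ψ b]
          induction Coalgebra.comul (R := k) b using TensorProduct.induction_on with
          | zero => simp
          | tmul p q => exact ⟨⟨ψ p, hCA p⟩ ⊗ₜ ⟨ψ q, hCA q⟩, rfl⟩
          | add p q hp hq => rw [map_add]; exact add_mem hp hq
        · rw [hz]
          exact add_mem ⟨⟨z, hzA⟩ ⊗ₜ ⟨_, hCA _⟩, rfl⟩ ⟨1 ⊗ₜ ⟨z, hzA⟩, rfl⟩
    · rintro _ ⟨q, rfl⟩
      change HopfAlgebra.antipodeAlgHom k A (φe q) ∈ A'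
      induction q using Polynomial.induction_on' with
      | add p q hp hq => rw [map_add, map_add]; exact add_mem hp hq
      | monomial i b =>
        rw [← Polynomial.C_mul_X_pow_eq_monomial, map_mul, map_mul, map_pow, map_pow, aevalTower_X, aevalTower_C]
        refine mul_mem ?_ (pow_mem ?_ _)
        · change HopfAlgebraStruct.antipode k (ψ b) ∈ A'
          rw [GrothLib.Hopf.bialgHom_antipode]
          exact hCA _
        · change HopfAlgebraStruct.antipode k z ∈ A'
          rw [antipode_skew ((F.isGroupLike γ).map ψ) hz, GrothLib.Hopf.bialgHom_antipode]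
          exact mul_mem (neg_mem hzA) (hCA _)
  letI := GrothLib.Hopf.Sub.hopfAlgebra hA'
  haveI : Module.FaithfullyFlat A' A :=
    GrothLib.Hopf.faithfullyFlat (GrothLib.Hopf.Sub.valHom hA') (fun _ => rfl) Subtype.val_injective
  let q₀ : C[X] := X - Polynomial.C (c • (F.β γ - 1))
  have hq₀ : φe q₀ = z - c • (ψ (F.β γ) - 1) := by
    simp only [φe, q₀, map_sub, aevalTower_X, aevalTower_C]
    change z - ψ (c • (F.β γ - 1)) = _
    rw [map_smul, map_sub, map_one]
  let z' : A' := ⟨φe q₀, q₀, rfl⟩
  have hmem : (⟨ψ b, hCA b⟩ : A') ∈ ((Ideal.span {z'}).map (algebraMap A' A)).comap (algebraMap A' A) := by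
    rw [Ideal.mem_comap, Ideal.map_span, Set.image_singleton]
    change ψ b ∈ Ideal.span {φe q₀}
    rwa [hq₀]
  rw [Ideal.comap_map_eq_self_of_faithfullyFlat, Ideal.mem_span_singleton'] at hmem
  obtain ⟨⟨_, q, rfl⟩, hq⟩ := hmem
  have h1 : φe (q * q₀ - Polynomial.C b) = 0 := by
    have h2 : φe q * φe q₀ = ψ b := congrArg Subtype.val hq
    rw [map_sub, map_mul, h2]
    rw [show φe (Polynomial.C b) = ψ b from aevalTower_C _ _ _, sub_self]
  have h3 := hc _ h1
  simpa [q₀] using h3

end GrothLib.UnipSplit14
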